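/-
Elements of the presented Held group intertwining two given elements: checks and their meaning.
-/
import Cfsg.Agent.HeMult.Model
import Cfsg.Agent.HeOut.Data

set_option autoImplicit false
set_option maxRecDepth 100000

namespace CfsgLib.HeOut

open H29.CosetCert CfsgLib.HeMult

/-- The action of a word. -/
noncomputable def ev (w : List ℕ) (c : ℕ) : ℕ := runR HeSlp.slp.tbl w c

/-- The letters of a word are in range. -/
def lt55 (w : List ℕ) : Bool := w.all fun x => Nat.blt x 55

/-- The value of a word. -/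
noncomputable def wv (w : List ℕ) : He := (w.map el).prod

theorem wv_nil : wv [] = 1 := rfl
theorem wv_append (w v : List ℕ) : wv (w ++ v) = wv w * wv v := by simp [wv]
theorem wv_single (i : ℕ) : wv [i] = el i := by simp [wv]

theorem wv_spec {w : List ℕ} (hw : lt55 w = true) (c : Fin 2058) :
    ((rho (wv w) c : Fin 2058) : ℕ) = ev w c :=
  HeCert.cert.word_val (L := HeSlp.slp) (el := el) (fun k hk c => el_spec hk c) w
    (fun x hx => Nat.blt_eq.mp (List.all_eq_true.1 hw x hx)) c

theorem ev_lt {w : List ℕ} (hw : lt55 w = true) {c : ℕ} (hc : c < 2058) : ev w c < 2058 := by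
  have := wv_spec hw ⟨c, hc⟩
  change _ = ev w c at this
  rw [← this]
  exact Fin.isLt _

theorem base_lt : ∀ b ∈ HeMult.base, b < 2058 := by decide

/-- Two words agree. -/
noncomputable def eqB (w v : List ℕ) : Bool :=
  lt55 w && lt55 v && HeMult.base.all fun b => Nat.beq (ev w b) (ev v b)

/-- Two words differ. -/
noncomputable def neB (w v : List ℕ) : Bool :=
  lt55 w && lt55 v && !(HeMult.base.all fun b => Nat.beq (ev w b) (ev v b))

theorem eqB_spec {w v : List ℕ} (h : eqB w v = true) : wv w = wv v := by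
  simp only [eqB, Bool.and_eq_true, List.all_eq_true, Nat.beq_eq] at h
  refine (inv_mul_eq_one.1 (base_fixer fun c hc => ?_)).symm
  rw [map_mul, map_inv, Equiv.Perm.mul_apply, Equiv.Perm.inv_eq_iff_eq]
  exact Fin.ext (by rw [wv_spec h.1.1, wv_spec h.1.2, h.2 c hc])

theorem neB_spec {w v : List ℕ} (h : neB w v = true) : wv w ≠ wv v := by
  simp only [neB, Bool.and_eq_true, Bool.not_eq_true'] at h
  intro e
  have : (HeMult.base.all fun b => Nat.beq (ev w b) (ev v b)) = true := by
    rw [List.all_eq_true]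
    intro b hb
    have h1 := wv_spec h.1.1 ⟨b, base_lt b hb⟩
    have h2 := wv_spec h.1.2 ⟨b, base_lt b hb⟩
    rw [e] at h1
    exact Nat.beq_eq ▸ (h1.symm.trans h2)
  rw [h.2] at this
  exact absurd this (by decide)

/-! ### Suborbits -/

/-- The suborbit of a point. -/
noncomputable def colOf (c : ℕ) : ℕ :=
  bif HeData.orb1.testBit c then 1 else bif HeData.orb2.testBit c then 2 else
    bif HeData.orb3.testBit c then 3 else bif HeData.orb4.testBit c then 4 else 0

theorem colOf_inv {h : He} (h0 : rho h ⟨0, by norm_num⟩ = ⟨0, by norm_num⟩) (d : Fin 2058) :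
    colOf (rho h d : Fin 2058) = colOf d := by
  have hH : h ∈ HeCert.H := by
    have e : HeCert.cert.toPt (h : He ⧸ HeCert.H) = HeCert.cert.toPt ((1 : He) : He ⧸ HeCert.H) := by
      rw [Cert.toPt_mk, Cert.toPt_mk, map_one]
      exact h0
    have := QuotientGroup.eq.1 (Function.LeftInverse.injective HeCert.cert.ofPt_toPt e)
    rwa [mul_one, Subgroup.inv_mem_iff] at this
  have key : ∀ {s m sz : ℕ} {l : List ℕ}, s < 2058 →
      growOK HeData.T (HeData.S.map List.reverse) m l (2 ^ s) = true →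
      allIn (fun c => bif m.testBit c then
        allIn (fun i => m.testBit (runR HeData.T (HeData.S.getD i []).reverse c)) 0 HeData.S.length
        else true) 0 2058 = true →
      countIn m.testBit 0 2058 = sz → m.testBit (rho h d : Fin 2058) = m.testBit d := by
    intro s m sz l hs hg hi hc
    obtain ⟨q, -, hq⟩ := HeCert.cert.exists_orbit (s := s) hs hg hi hc
    set p := HeCert.cert.ptEquiv.symm d
    have hp : HeCert.cert.toPt p = d := HeCert.cert.ptEquiv.apply_symm_apply d
    have h1 := hq p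
    have h2 := hq (h • p)
    rw [hp] at h1
    rw [Cert.toPt_smul, hp] at h2
    have h3 : h • p ∈ MulAction.orbit HeCert.H q ↔ p ∈ MulAction.orbit HeCert.H q :=
      ⟨fun ⟨k, hk⟩ => ⟨(⟨h, hH⟩ : HeCert.H)⁻¹ * k, by
          show ((⟨h, hH⟩ : HeCert.H)⁻¹ * k) • q = p
          rw [mul_smul, show k • q = h • p from hk]
          exact inv_smul_smul (⟨h, hH⟩ : HeCert.H) p⟩,
       fun ⟨k, hk⟩ => ⟨(⟨h, hH⟩ : HeCert.H) * k, by
          show ((⟨h, hH⟩ : HeCert.H) * k) • q = h • p
          rw [mul_smul, show k • q = p from hk]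
          rfl⟩⟩
    exact Bool.eq_iff_iff.2 (h2.symm.trans (h3.trans h1))
  simp only [colOf, key (s := 1) (by decide) HeData.orb1_grow HeData.orb1_inv HeData.orb1_count,
    key (s := 2) (by decide) HeData.orb2_grow HeData.orb2_inv HeData.orb2_count,
    key (s := 46) (by decide) HeData.orb3_grow HeData.orb3_inv HeData.orb3_count,
    key (s := 65) (by decide) HeData.orb4_grow HeData.orb4_inv HeData.orb4_count]

/-- A word sending a point to the first one. -/
def prevW (a : ℕ) : List ℕ := (prevT.getD (a / 50) []).getD (a % 50) []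

/-- The words do so. -/
noncomputable def prevOk : Bool := allIn (fun a => lt55 (prevW a) && Nat.beq (ev (prevW a) a) 0) 0 2058

/-- The colour of a pair of points. -/
noncomputable def colr (a c : ℕ) : ℕ := colOf (ev (prevW a) c)

theorem colr_inv (hok : prevOk = true) (g : He) (x y : Fin 2058) :
    colr (rho g x : Fin 2058) (rho g y : Fin 2058) = colr x y := by
  have hp : ∀ z : Fin 2058, lt55 (prevW z) = true ∧ rho (wv (prevW z)) z = ⟨0, by norm_num⟩ := fun z => by
    have := (allIn_iff _ _ _).1 hok z (Nat.zero_le _) (by omega)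
    simp only [Bool.and_eq_true, Nat.beq_eq] at this
    exact ⟨this.1, Fin.ext (by rw [wv_spec this.1, this.2])⟩
  set h := wv (prevW (rho g x : Fin 2058)) * g * (wv (prevW x))⁻¹
  have h0 : rho h ⟨0, by norm_num⟩ = ⟨0, by norm_num⟩ := by
    rw [map_mul, map_mul, map_inv, Equiv.Perm.mul_apply, Equiv.Perm.mul_apply,
      ← (hp x).2, ← Equiv.Perm.mul_apply (rho (wv (prevW x)))⁻¹, inv_mul_cancel, Equiv.Perm.one_apply,
      (hp _).2, (hp x).2]
  have h1 := colOf_inv h0 (rho (wv (prevW x)) y)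
  rw [map_mul, map_mul, map_inv, Equiv.Perm.mul_apply, Equiv.Perm.mul_apply,
    ← Equiv.Perm.mul_apply (rho (wv (prevW x)))⁻¹, inv_mul_cancel, Equiv.Perm.one_apply] at h1
  rw [colr, colr, ← wv_spec (hp _).1, ← wv_spec (hp x).1]
  exact h1

/-! ### Three points -/

/-- The element fixes three points. -/
def Fix3 (z : ℕ) : Type :=
  {g : He // ∀ c : Fin 2058, (c : ℕ) = 0 ∨ (c : ℕ) = 910 ∨ (c : ℕ) = z → rho g c = c}

theorem card_fix939 : Nat.card (Fix3 939) ≤ 4 := by
  haveI := finite_He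
  let K := rho.range
  have hK : Nat.card K = 4030387200 := by
    rw [← card_He]
    exact (Nat.card_congr (MonoidHom.ofInjective HeOrd.injective_card.1).toEquiv).symm
  have hb : (HeSlp.chain.take 3).map BaseLevel.b = [0, 910, 939] := by decide +kernel
  have hprod : ((HeSlp.chain.take 3).map BaseLevel.sz).prod = 1007596800 := by decide +kernel
  have h := chain_mul_fixer el (fun k hk => el_spec hk) rfl (HeSlp.chain.take 3) K (by decide +kernel)
    (fun l _ u _ => ⟨el u, rfl⟩)
  rw [hprod, hK] at h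
  have h4 : Nat.card {g : K // ∀ l ∈ HeSlp.chain.take 3, ∀ c : Fin 2058, (c : ℕ) = l.b →
      (g : Equiv.Perm (Fin 2058)) c = c} ≤ 4 := Nat.le_of_mul_le_mul_left (h.trans (by norm_num)) (by norm_num : 0 < 1007596800)
  have hmem : ∀ g : Fix3 939, ∀ l ∈ HeSlp.chain.take 3, ∀ c : Fin 2058, (c : ℕ) = l.b → rho g.1 c = c := by
    intro g l hl c hc
    refine g.2 c ?_
    have := List.mem_map_of_mem (f := BaseLevel.b) hl
    rw [hb] at this
    simpa [hc] using this
  let F : Fix3 939 → {g : K // ∀ l ∈ HeSlp.chain.take 3, ∀ c : Fin 2058, (c : ℕ) = l.b →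
      (g : Equiv.Perm (Fin 2058)) c = c} := fun g => ⟨⟨rho g.1, g.1, rfl⟩, hmem g⟩
  refine le_trans (Nat.card_le_card_of_injective F fun g g' e => ?_) h4
  exact Subtype.ext (HeOrd.injective_card.1 (congrArg Subtype.val (congrArg Subtype.val e) : rho g.1 = rho g'.1))

/-- A word moves the third base point to a given one. -/
noncomputable def kqOk (kq : List ℕ) (q : ℕ) : Bool :=
  lt55 kq && Nat.beq (ev kq 0) 0 && Nat.beq (ev kq 910) 910 && Nat.beq (ev kq 939) q

theorem card_fix {kq : List ℕ} {q : ℕ} (h : kqOk kq q = true) : Nat.card (Fix3 q) ≤ 4 := by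
  haveI := finite_He
  simp only [kqOk, Bool.and_eq_true, Nat.beq_eq] at h
  obtain ⟨⟨⟨hl, h0⟩, h9⟩, hq⟩ := h
  haveI : Finite (Fix3 939) := Subtype.finite
  refine le_trans (Nat.card_le_card_of_injective (fun g => (⟨(wv kq)⁻¹ * g.1 * wv kq, fun c hc => ?_⟩ : Fix3 939))
    fun g g' e => ?_) card_fix939
  · rw [map_mul, map_mul, Equiv.Perm.mul_apply, Equiv.Perm.mul_apply, map_inv, Equiv.Perm.inv_eq_iff_eq]
    refine (g.2 _ ?_).symm ▸ rfl
    rw [wv_spec hl]
    rcases hc with hc | hc | hc <;> rw [hc]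
    · exact Or.inl h0
    · exact Or.inr (Or.inl h9)
    · exact Or.inr (Or.inr hq)
  · exact Subtype.ext (mul_left_cancel (mul_right_cancel (congrArg Subtype.val e)))

/-! ### Intertwining elements -/

/-- Iterate a word. -/
noncomputable def itW (w : List ℕ) (c : ℕ) : ℕ → ℕ
  | 0 => c
  | n + 1 => ev w (itW w c n)

theorem itW_spec {u v : List ℕ} (hu : lt55 u = true) (hv : lt55 v = true) {g : He}
    (hg : g * wv u = wv v * g) (x : Fin 2058) :
    ∀ n, ∃ y : Fin 2058, (y : ℕ) = itW u x n ∧ ((rho g y : Fin 2058) : ℕ) = itW v (rho g x : Fin 2058) n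
  | 0 => ⟨x, rfl, rfl⟩
  | n + 1 => by
    obtain ⟨y, hy, hy'⟩ := itW_spec hu hv hg x n
    refine ⟨rho (wv u) y, by rw [wv_spec hu, hy]; rfl, ?_⟩
    rw [← Equiv.Perm.mul_apply, ← map_mul, hg, map_mul, Equiv.Perm.mul_apply, wv_spec hv, hy']
    rfl

variable (S : Srch)

/-- The first checks. -/
noncomputable def headOk : Bool :=
  lt55 S.u && lt55 S.v && Nat.blt S.p 2058 && Nat.blt S.b 2058 && Nat.beq (ev S.u 0) 0 &&
  Nat.beq (ev S.u S.p) S.p && Nat.beq (itW S.u S.b S.j) S.q &&
  allIn (fun x => !(Nat.beq (ev S.v x) x) || S.F.contains x) 0 2058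

/-- The colours along the cycles agree. -/
noncomputable def sigC (c : ℕ) : Bool :=
  (List.range S.m).all fun n => Nat.beq (colr c (itW S.v c n)) (colr S.b (itW S.u S.b n))

/-- Every possible image is listed. -/
noncomputable def casesOk : Bool :=
  S.F.all fun a => S.F.all fun bb => !(Nat.beq (colr a bb) (colr 0 S.p)) ||
    allIn (fun c => !(Nat.beq (colr a c) (colr 0 S.b) && Nat.beq (colr bb c) (colr S.p S.b) && sigC S c) ||
      S.rows.any fun r => Nat.beq r.1 a && Nat.beq r.2.1 c) 0 2058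

/-- The images of the base, packed. -/
noncomputable def codeW (w : List ℕ) : ℕ :=
  ev w 0 + 4096 * (ev w 910 + 4096 * (ev w 939 + 4096 * ev w 196))

/-- The four elements with given images, and their fate. -/
noncomputable def rowsOk : Bool :=
  S.rows.all fun r => Nat.beq S.b 910 && kqOk S.kq S.q && Nat.beq r.2.2.length 4 &&
    CfsgLib.SchurCert.increasing (r.2.2.map codeW) &&
    r.2.2.all fun e => lt55 e && Nat.beq (ev e 0) r.1 && Nat.beq (ev e 910) r.2.1 &&
      Nat.beq (ev e S.q) (itW S.v r.2.1 S.j) &&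
      (neB (e ++ S.u) (S.v ++ e) || S.known.any fun k => eqB e k)

variable {S}

theorem srch_spec (hp : prevOk = true) (h1 : headOk S = true) (h2 : casesOk S = true) (h3 : rowsOk S = true)
    {g : He} (hg : g * wv S.u = wv S.v * g) : ∃ k ∈ S.known, g = wv k := by
  classical
  haveI := finite_He
  simp only [headOk, Bool.and_eq_true, Nat.beq_eq, Nat.blt_eq] at h1
  obtain ⟨⟨⟨⟨⟨⟨⟨hu, hv⟩, hpp⟩, hb⟩, hu0⟩, hup⟩, huq⟩, hF⟩ := h1
  let o : Fin 2058 := ⟨0, by norm_num⟩
  have hfix : ∀ x : Fin 2058, ev S.u x = x → ((rho g x : Fin 2058) : ℕ) ∈ S.F := by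
    intro x hx
    have e1 : rho (wv S.v) (rho g x) = rho g x := by
      rw [← Equiv.Perm.mul_apply, ← map_mul, ← hg, map_mul, Equiv.Perm.mul_apply]
      exact congrArg _ (Fin.ext (by rw [wv_spec hu, hx]))
    have e2 := congrArg Fin.val e1
    rw [wv_spec hv] at e2
    have := (allIn_iff _ _ _).1 hF (rho g x : Fin 2058) (Nat.zero_le _) (by omega)
    simpa [e2] using this
  let P : Fin 2058 := ⟨S.p, hpp⟩
  let B : Fin 2058 := ⟨S.b, hb⟩
  have hrow := List.all_eq_true.1 (List.all_eq_true.1 h2 _ (hfix o hu0)) _ (hfix P hup)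
  rw [show colr (rho g o : Fin 2058) (rho g P : Fin 2058) = colr 0 S.p from colr_inv hp g o P] at hrow
  simp only [Nat.beq_refl, Bool.not_true, Bool.false_or] at hrow
  have hcase := (allIn_iff _ _ _).1 hrow (rho g B : Fin 2058) (Nat.zero_le _) (by omega)
  have hsig : sigC S (rho g B : Fin 2058) = true := by
    rw [sigC, List.all_eq_true]
    intro n _
    obtain ⟨y, hy, hy'⟩ := itW_spec hu hv hg B n
    rw [← hy', show S.b = ((B : Fin 2058) : ℕ) from rfl, ← hy, colr_inv hp g B y]
    exact Nat.beq_refl _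
  rw [show colr (rho g o : Fin 2058) (rho g B : Fin 2058) = colr 0 S.b from colr_inv hp g o B,
    show colr (rho g P : Fin 2058) (rho g B : Fin 2058) = colr S.p S.b from colr_inv hp g P B] at hcase
  simp only [Nat.beq_refl, hsig, Bool.and_self, Bool.not_true, Bool.false_or, List.any_eq_true,
    Bool.and_eq_true, Nat.beq_eq] at hcase
  obtain ⟨r, hr, hr1, hr2⟩ := hcase
  have h := List.all_eq_true.1 h3 r hr
  simp only [Bool.and_eq_true, Nat.beq_eq, List.all_eq_true] at h
  obtain ⟨⟨⟨⟨hb9, hkq⟩, hlen⟩, hinc⟩, hall⟩ := h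
  obtain ⟨y, hy, hy'⟩ := itW_spec hu hv hg B S.j
  rw [show ((B : Fin 2058) : ℕ) = S.b from rfl, huq] at hy
  rw [← hr2] at hy'
  -- the elements with these three images
  let X : Type := {x : He // ((rho x o : Fin 2058) : ℕ) = r.1 ∧ ((rho x B : Fin 2058) : ℕ) = r.2.1 ∧
    ((rho x y : Fin 2058) : ℕ) = itW S.v r.2.1 S.j}
  have hgX : ((rho g o : Fin 2058) : ℕ) = r.1 ∧ ((rho g B : Fin 2058) : ℕ) = r.2.1 ∧
      ((rho g y : Fin 2058) : ℕ) = itW S.v r.2.1 S.j := ⟨hr1.symm, hr2.symm, hy'⟩
  have hX : Nat.card X ≤ 4 := by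
    haveI : Finite (Fix3 S.q) := Subtype.finite
    refine le_trans (Nat.card_le_card_of_injective (fun x : X => (⟨g⁻¹ * x.1, fun c hc => ?_⟩ : Fix3 S.q))
      fun x x' e => ?_) (card_fix hkq)
    · rw [map_mul, map_inv, Equiv.Perm.mul_apply, Equiv.Perm.inv_eq_iff_eq]
      rcases hc with hc | hc | hc
      · rw [show c = o from Fin.ext hc]; exact Fin.ext (x.2.1.trans hgX.1.symm)
      · rw [show c = B from Fin.ext (hc.trans hb9.symm)]; exact Fin.ext (x.2.2.1.trans hgX.2.1.symm)
      · rw [show c = y from Fin.ext (hc.trans hy.symm)]; exact Fin.ext (x.2.2.2.trans hgX.2.2.symm)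
    · exact Subtype.ext (mul_left_cancel (congrArg Subtype.val e))
  have hmem : ∀ e ∈ r.2.2, ((rho (wv e) o : Fin 2058) : ℕ) = r.1 ∧ ((rho (wv e) B : Fin 2058) : ℕ) = r.2.1 ∧
      ((rho (wv e) y : Fin 2058) : ℕ) = itW S.v r.2.1 S.j := by
    intro e he
    obtain ⟨⟨⟨⟨hl, e0⟩, e9⟩, eq⟩, -⟩ := hall e he
    refine ⟨by rw [wv_spec hl]; exact e0, ?_, by rw [wv_spec hl, hy, eq]⟩
    rw [wv_spec hl, show ((B : Fin 2058) : ℕ) = 910 from hb9, e9]
  let f : Fin r.2.2.length → X := fun i => ⟨wv r.2.2[i], hmem _ (List.getElem_mem _)⟩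
  have hnd := CfsgLib.SchurCert.increasing_nodup _ hinc
  have hf : Function.Injective f := by
    intro i k e
    have e' : wv r.2.2[i] = wv r.2.2[k] := congrArg Subtype.val e
    have hl : ∀ i : Fin r.2.2.length, lt55 r.2.2[i] = true := fun i => (hall _ (List.getElem_mem i.isLt)).1.1.1.1
    have hx : ∀ (c : ℕ), c < 2058 → ev r.2.2[i] c = ev r.2.2[k] c := fun c hc => by
      rw [← wv_spec (hl i) ⟨c, hc⟩, ← wv_spec (hl k) ⟨c, hc⟩, e']
    have hc : codeW r.2.2[i] = codeW r.2.2[k] := by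
      simp only [codeW, hx 0 (by norm_num), hx 910 (by norm_num), hx 939 (by norm_num), hx 196 (by norm_num)]
    have := hnd.getElem_inj_iff (i := i.1) (j := k.1) (hi := by simp) (hj := by simp)
    exact Fin.ext (this.1 (by simpa using hc))
  have hbij : Function.Bijective f := by
    haveI : Finite X := Subtype.finite
    refine (Nat.bijective_iff_injective_and_card f).2 ⟨hf, ?_⟩
    have h1 := Nat.card_le_card_of_injective f hf
    rw [Nat.card_fin] at h1 ⊢
    omega
  obtain ⟨i, hi⟩ := hbij.2 ⟨g, hgX⟩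
  have hgi : g = wv r.2.2[i] := (congrArg Subtype.val hi).symm
  obtain ⟨-, h5⟩ := hall _ (List.getElem_mem i.isLt)
  rw [Bool.or_eq_true, List.any_eq_true] at h5
  rcases h5 with h5 | ⟨k, hk, hek⟩
  · refine absurd ?_ (neB_spec h5)
    rw [wv_append, wv_append]
    show wv r.2.2[i] * _ = _ * wv r.2.2[i]
    rw [← hgi, hg]
  · exact ⟨k, hk, hgi.trans (eqB_spec hek)⟩

end CfsgLib.HeOut
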