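/-
Checks bounding the automorphisms of the Held group.
-/
import Cfsg.Agent.HeOut.Defs

set_option autoImplicit false

namespace CfsgLib.HeOut

/-- A word repeated. -/
def repW (w : List ℕ) : ℕ → List ℕ
  | 0 => []
  | m + 1 => w ++ repW w m

/-- Substitution for two letters. -/
def sub2 (a z : List ℕ) : List ℕ → List ℕ
  | [] => []
  | x :: r => (bif Nat.beq x 0 then a else z) ++ sub2 a z r

/-- The second generator. -/
def wZ : List ℕ := srchY.known.getD zi []
/-- Its other possible image. -/
def wZ' : List ℕ := srchY.known.getD zo []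

/-- The powers and the relations. -/
noncomputable def relOk : Bool :=
  eqB srchA.u wA && eqB srchA.v wA && eqB srchA3.u wA && eqB srchA3.v wA3 && eqB srchY.u wY &&
  eqB srchY.v (repW wY 3) && eqB wA3 (repW wA 3) &&
  eqB (repW wA 17) [] && neB wA [] && eqB (wY ++ wA) (wA ++ wA ++ wY) &&
  eqB (wZ ++ wY) (repW wY 3 ++ wZ) && srchA3.known.isEmpty &&
  Nat.beq srchA.known.length 17 &&
  (List.range 17).all fun i => eqB (srchA.known.getD i []) (repW wA i)

/-- The seven generators are words in the two elements. -/
noncomputable def genOk : Bool :=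
  (List.range 7).all fun i => eqB (sub2 wA wZ (genWords.getD i [])) [i]

/-- A candidate is excluded. -/
noncomputable def killOk (a : List ℕ) (c : List ℕ) (V : List ℕ × ℕ) : Bool :=
  eqB (repW (sub2 wA wZ V.1) V.2) [] && neB (repW (sub2 a c V.1) V.2) []

/-- A permutation table. -/
def tb (T : List (List ℕ)) (c : ℕ) : ℕ := (T.getD (c / 50) []).getD (c % 50) 0

/-- The tables are inverse to each other. -/
def sigBij : Bool :=
  (List.range 2058).all fun c =>
    Nat.blt (tb sigT c) 2058 && Nat.blt (tb sigI c) 2058 && Nat.beq (tb sigI (tb sigT c)) c &&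
      Nat.beq (tb sigT (tb sigI c)) c

/-- The table carries one element to another, on a block of points. -/
noncomputable def sigConj (w w' : List ℕ) (lo n : ℕ) : Bool :=
  H29.CosetCert.allIn (fun c => Nat.beq (tb sigT (ev w c)) (ev w' (tb sigT c))) lo n

end CfsgLib.HeOut
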