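/-
Kernel checks bounding the automorphisms of the Held group.
-/
import Cfsg.Agent.HeOut.Checks

set_option autoImplicit false
set_option maxRecDepth 100000
set_option maxHeartbeats 0
set_option Elab.async false

namespace CfsgLib.HeOut

theorem prev_ok : prevOk = true := by decide +kernel
theorem headA : headOk srchA = true := by decide +kernel
theorem headA3 : headOk srchA3 = true := by decide +kernel
theorem headY : headOk srchY = true := by decide +kernel
theorem casesA : casesOk srchA = true := by decide +kernel
theorem casesA3 : casesOk srchA3 = true := by decide +kernel
theorem rowsA3 : rowsOk srchA3 = true := by decide +kernel

end CfsgLib.HeOut
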