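/-
Kernel checks bounding the automorphisms of the Held group.
-/
import Cfsg.Agent.HeOut.Checks

set_option autoImplicit false
set_option maxRecDepth 100000
set_option maxHeartbeats 0
set_option Elab.async false

namespace CfsgLib.HeOut

theorem rel_ok : relOk = true := by decide +kernel
theorem gen_ok : genOk = true := by decide +kernel
theorem known_len : srchY.known.length = 16 ∧ zi < 16 ∧ zo < 16 := by decide +kernel
theorem one_ok : ((List.range 16).all fun i =>
    Nat.beq i zi || killOk wA (srchY.known.getD i []) (verdOne.getD i ([], 0))) = true := by decide +kernel
theorem three_ok : ((List.range 16).all fun i =>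
    Nat.beq i zo || killOk wA3 (srchY.known.getD i []) (verdThree.getD i ([], 0))) = true := by decide +kernel
theorem sig_bij : sigBij = true := by decide +kernel

end CfsgLib.HeOut
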