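/-
Kernel checks bounding the automorphisms of the Held group.
-/
import Cfsg.Agent.HeOut.Checks

set_option autoImplicit false
set_option maxRecDepth 100000
set_option maxHeartbeats 0
set_option Elab.async false

namespace CfsgLib.HeOut

theorem sigA : sigConj wA wA3 0 2058 = true := by decide +kernel
theorem sigZ : sigConj wZ wZ' 0 2058 = true := by decide +kernel

end CfsgLib.HeOut
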